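import Mathlib.LinearAlgebra.SymplecticGroup
import Mathlib.LinearAlgebra.Matrix.SpecialLinearGroup
import Mathlib.LinearAlgebra.Matrix.ToLin
import Mathlib.LinearAlgebra.FiniteDimensional.Lemmas
import Mathlib.FieldTheory.Finite.Basic
import Mathlib.Algebra.CharP.Lemmas

/-!
Elements of order three of `SL(2,5)` inside `Sp(4,3)`.
-/

set_option autoImplicit false
set_option linter.style.haveILetI false

namespace CfsgLib.SL25InSp43

open Matrix

theorem scalar_five : ∀ a b c : ZMod 5, a * (-1 - a) - b * c = 1 →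
    (∃ p q r : ZMod 5, p * p + q * r = -1 ∧ p * (a - (-1 - a)) + q * c + r * b = 0) ∧
    (∃ u v : ZMod 5, u * v = 0 ∧ (a + b * v) * (a - b * v) + (a * u + b) * (c - (-1 - a) * v) +
      (c + (-1 - a) * v) * (b - a * u) + (c * u + (-1 - a)) * ((-1 - a) - c * u) = 0) := by
  decide +kernel

variable {K : Type*} [Field K]

theorem sq_eq_neg_one (y : Matrix.SpecialLinearGroup (Fin 2) K) (h : y.1 0 0 + y.1 1 1 = 0) :
    y * y = -1 := by
  have hd := y.2
  rw [Matrix.det_fin_two] at hd
  have h11 : y.1 1 1 = -y.1 0 0 := by linear_combination h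
  rw [h11] at hd
  apply Subtype.ext
  rw [Matrix.SpecialLinearGroup.coe_mul, Matrix.SpecialLinearGroup.coe_neg,
    Matrix.SpecialLinearGroup.coe_one]
  refine Matrix.ext ?_
  simp only [Fin.forall_fin_two]
  refine ⟨⟨?_, ?_⟩, ⟨?_, ?_⟩⟩ <;> simp [Matrix.mul_apply, Fin.sum_univ_two, h11] <;>
    first | ring1 | linear_combination -hd

theorem three_zero : (3 : ZMod 3) = 0 := by decide

theorem five_zero : (5 : ZMod 5) = 0 := by decide

variable [Fintype K]

theorem witnesses (hK : Fintype.card K = 5) (x : Matrix.SpecialLinearGroup (Fin 2) K)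
    (hx : orderOf x = 3) : ∃ t s : Matrix.SpecialLinearGroup (Fin 2) K,
      t * t = -1 ∧ t * x * t⁻¹ = x⁻¹ ∧ x * (s * x * s⁻¹) * (x * (s * x * s⁻¹)) = -1 := by
  haveI : Fact (Nat.Prime 5) := ⟨Nat.prime_five⟩
  let e : ZMod 5 ≃+* K := ZMod.ringEquivOfPrime K Nat.prime_five hK
  have h5 : (5 : K) = 0 := by
    rw [show (5 : K) = e 5 from (map_ofNat e 5).symm, five_zero, map_zero]
  have h3 : x * x * x = 1 := by
    rw [← pow_three', ← hx]; exact pow_orderOf_eq_one x
  have hd := x.2
  rw [Matrix.det_fin_two] at hd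
  -- the trace is `-1`
  have htr : x.1 1 1 = -1 - x.1 0 0 := by
    set T := x.1 0 0 + x.1 1 1 with hT
    have hsq : ∀ i j, (x.1 * x.1) i j = T * x.1 i j - (1 : Matrix (Fin 2) (Fin 2) K) i j := by
      simp only [Fin.forall_fin_two]
      refine ⟨⟨?_, ?_⟩, ⟨?_, ?_⟩⟩ <;> simp [Matrix.mul_apply, Fin.sum_univ_two, hT] <;>
        first | ring1 | linear_combination -hd
    have hcube : ∀ i j, (x.1 * x.1 * x.1) i j = (T * T - 1) * x.1 i j - T *
        (1 : Matrix (Fin 2) (Fin 2) K) i j := by
      simp only [Fin.forall_fin_two]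
      refine ⟨⟨?_, ?_⟩, ⟨?_, ?_⟩⟩ <;> rw [Matrix.mul_apply, Fin.sum_univ_two, hsq, hsq] <;> simp [hT] <;> first | ring1 | linear_combination (-T) * hd
    have hone : (x.1 * x.1 * x.1) = 1 := congrArg Subtype.val h3
    have hTT : (T + 1) = 0 := by
      by_contra hne
      have hT1 : T - 1 ≠ 0 ∨ T - 1 = 0 := ne_or_eq _ _
      rcases hT1 with hne' | heq
      · -- `x` would be scalar
        have hscal : ∀ i j, x.1 i j = (T * T - 1)⁻¹ * (T + 1) *
            (1 : Matrix (Fin 2) (Fin 2) K) i j := by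
          intro i j
          have h := hcube i j
          rw [hone] at h
          have h2 : T * T - 1 ≠ 0 := by
            rw [show T * T - 1 = (T + 1) * (T - 1) by ring]; exact mul_ne_zero hne hne'
          rw [mul_assoc, eq_inv_mul_iff_mul_eq₀ h2]
          linear_combination -h
        have h00 := hscal 0 0
        have h01 := hscal 0 1
        have h10 := hscal 1 0
        have h11 := hscal 1 1
        simp only [Matrix.one_apply_eq, Matrix.one_apply_ne (show (0 : Fin 2) ≠ 1 by decide),
          Matrix.one_apply_ne (show (1 : Fin 2) ≠ 0 by decide), mul_one, mul_zero] at h00 h01 h10 h11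
        set l := (T * T - 1)⁻¹ * (T + 1)
        have hl2 : l * l = 1 := by
          rw [h00, h01, h10, h11] at hd
          linear_combination hd
        have hl3 : l * l * l = 1 := by
          have h := congrFun (congrFun hone 0) 0
          simp [Matrix.mul_apply, Fin.sum_univ_two, h00, h01, h10] at h
          linear_combination h
        have hl : l = 1 := by rw [hl2, one_mul] at hl3; exact hl3
        have : x = 1 := Subtype.ext (Matrix.ext fun i j => by
          rw [hscal, hl, one_mul, Matrix.SpecialLinearGroup.coe_one])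
        rw [this, orderOf_one] at hx
        omega
      · -- here the cube relation reads `1 = -1`
        have h := hcube 0 0
        rw [hone, show T = 1 by linear_combination heq] at h
        simp at h
        have h20 : (2 : K) = 0 := by linear_combination h
        exact one_ne_zero (show (1 : K) = 0 by linear_combination h5 - 2 * h20)
    linear_combination hTT - hT
  obtain ⟨⟨p, q, r, hpq, htt⟩, ⟨u, v, huv, hss⟩⟩ := scalar_five (e.symm (x.1 0 0))
    (e.symm (x.1 0 1)) (e.symm (x.1 1 0)) (by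
      apply e.injective
      simp only [map_mul, map_sub, map_neg, map_one, RingEquiv.apply_symm_apply]
      rw [htr] at hd
      exact hd)
  have hpq' := congrArg e hpq
  have htt' := congrArg e htt
  have huv' := congrArg e huv
  have hss' := congrArg e hss
  simp only [map_mul, map_sub, map_add, map_neg, map_one, map_zero, RingEquiv.apply_symm_apply]
    at hpq' htt' huv' hss'
  let t : Matrix.SpecialLinearGroup (Fin 2) K := ⟨!![e p, e q; e r, -e p], by
    rw [Matrix.det_fin_two_of]; linear_combination -hpq'⟩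
  let s : Matrix.SpecialLinearGroup (Fin 2) K := ⟨!![1, e u; e v, 1], by
    rw [Matrix.det_fin_two_of]; linear_combination -huv'⟩
  have ht : t * t = -1 := sq_eq_neg_one t (by simp [t])
  refine ⟨t, s, ht, ?_, sq_eq_neg_one _ ?_⟩
  · have h : t * x * (t * x) = -1 := sq_eq_neg_one _ (by
      show (t.1 * x.1) 0 0 + (t.1 * x.1) 1 1 = 0
      simp [t, Matrix.mul_apply, Fin.sum_univ_two, htr]
      linear_combination htt')
    have h1 : t⁻¹ = -t := inv_eq_of_mul_eq_one_right (by rw [mul_neg, ht, neg_neg])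
    refine eq_inv_of_mul_eq_one_left ?_
    rw [h1, mul_neg, neg_mul, mul_assoc (t * x), h, neg_neg]
  · have hs : (s⁻¹).1 = !![1, -e u; -e v, 1] := by
      rw [Matrix.SpecialLinearGroup.coe_inv, Matrix.adjugate_fin_two_of]
    rw [Matrix.SpecialLinearGroup.coe_mul, Matrix.SpecialLinearGroup.coe_mul,
      Matrix.SpecialLinearGroup.coe_mul, hs]
    simp only [Matrix.mul_apply, Fin.sum_univ_two]
    simp [s, htr]
    linear_combination hss'

variable {F : Type*} [Field F] [Fintype F]

theorem main (hF : Fintype.card F = 3) (hK : Fintype.card K = 5)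
    (φ : Matrix.SpecialLinearGroup (Fin 2) K →* ↥(Matrix.symplecticGroup (Fin 2) F))
    (hφ : Function.Injective φ) (x : Matrix.SpecialLinearGroup (Fin 2) K) (hx : orderOf x = 3) :
    Module.finrank F ↥(LinearMap.ker (Matrix.toLin' ((φ x : Matrix (Fin 2 ⊕ Fin 2) (Fin 2 ⊕ Fin 2) F)) -
        LinearMap.id)) = 2 ∧
      ∀ v w : Fin 2 ⊕ Fin 2 → F, (φ x : Matrix (Fin 2 ⊕ Fin 2) (Fin 2 ⊕ Fin 2) F).mulVec v = v →
        (φ x : Matrix (Fin 2 ⊕ Fin 2) (Fin 2 ⊕ Fin 2) F).mulVec w = w →
          dotProduct v ((Matrix.J (Fin 2) F).mulVec w) = 0 := by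
  haveI : Fact (Nat.Prime 3) := ⟨Nat.prime_three⟩
  haveI : Fact (Nat.Prime 5) := ⟨Nat.prime_five⟩
  have h3F : (3 : F) = 0 := by
    let e := ZMod.ringEquivOfPrime F Nat.prime_three hF
    rw [show (3 : F) = e 3 from (map_ofNat e 3).symm, three_zero, map_zero]
  have hneg : ∀ {a : F}, -a = a → a = 0 := fun {a} h => by linear_combination a * h3F + h
  obtain ⟨t, s, htt, htx, hxs⟩ := witnesses hK x hx
  set J := Matrix.J (Fin 2) F with hJ
  let mat : Matrix.SpecialLinearGroup (Fin 2) K → Matrix (Fin 2 ⊕ Fin 2) (Fin 2 ⊕ Fin 2) F :=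
    fun y => (φ y : Matrix (Fin 2 ⊕ Fin 2) (Fin 2 ⊕ Fin 2) F)
  have hmul : ∀ y z v, mat y *ᵥ (mat z *ᵥ v) = mat (y * z) *ᵥ v := fun y z v => by
    rw [Matrix.mulVec_mulVec]; simp [mat]
  have hone : ∀ v, mat 1 *ᵥ v = v := fun v => by simp [mat]
  -- the alternating form
  let ω : (Fin 2 ⊕ Fin 2 → F) → (Fin 2 ⊕ Fin 2 → F) → F := fun v w => v ⬝ᵥ J *ᵥ w
  have hω : ∀ y v w, ω (mat y *ᵥ v) (mat y *ᵥ w) = ω v w := fun y v w => by
    have h := SymplecticGroup.mem_iff'.1 (φ y).2
    show (mat y *ᵥ v) ⬝ᵥ J *ᵥ (mat y *ᵥ w) = v ⬝ᵥ J *ᵥ w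
    rw [dotProduct_comm, ← Matrix.dotProduct_transpose_mulVec, Matrix.mulVec_mulVec,
      Matrix.mulVec_mulVec, h, dotProduct_comm]
  have hskew : ∀ v w, ω w v = -ω v w := fun v w => by
    show w ⬝ᵥ J *ᵥ v = -(v ⬝ᵥ J *ᵥ w)
    rw [Matrix.dotProduct_mulVec, ← Matrix.mulVec_transpose, Matrix.J_transpose, Matrix.neg_mulVec,
      neg_dotProduct, dotProduct_comm]
  have halt : ∀ v, ω v v = 0 := fun v => hneg (hskew v v).symm
  have hnd : ∀ w, (∀ v, ω v w = 0) → w = 0 := fun w h => by
    have h1 : J *ᵥ w = 0 := funext fun i => by simpa [ω] using h (Pi.single i 1)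
    have h2 := congrArg (J *ᵥ ·) h1
    simp only [Matrix.mulVec_mulVec, Matrix.mulVec_zero] at h2
    rw [hJ, Matrix.J_squared, Matrix.neg_mulVec, Matrix.one_mulVec, neg_eq_zero] at h2
    exact h2
  let N : (Fin 2 ⊕ Fin 2 → F) →ₗ[F] (Fin 2 ⊕ Fin 2 → F) := Matrix.toLin' (mat x) - LinearMap.id
  have hN : ∀ v, N v = mat x *ᵥ v - v := fun v => by simp [N]
  have hx3 : x ^ 3 = 1 := by rw [← hx]; exact pow_orderOf_eq_one x
  have hN3 : ∀ v, N (N (N v)) = 0 := fun v => by
    simp only [hN, Matrix.mulVec_sub, hmul]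
    rw [show x * (x * x) = 1 by rw [← hx3, pow_three], hone]
    funext i
    simp only [Pi.sub_apply, Pi.zero_apply]
    linear_combination ((mat x *ᵥ v) i - (mat (x * x) *ᵥ v) i) * h3F
  have hadd : ∀ v w u, ω (v + w) u = ω v u + ω w u := fun v w u => add_dotProduct _ _ _
  have hadd' : ∀ u v w, ω u (v + w) = ω u v + ω u w := fun u v w => by
    simp [ω, Matrix.mulVec_add, dotProduct_add]
  have hsmul : ∀ (c : F) v w, ω (c • v) w = c * ω v w := fun c v w => smul_dotProduct c v _
  have hh : ∀ u v, ω (N u) v + ω u (N v) + ω (N u) (N v) = 0 := fun u v => by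
    have h := hω x u v
    rw [show mat x *ᵥ u = N u + u by rw [hN, sub_add_cancel],
      show mat x *ᵥ v = N v + v by rw [hN, sub_add_cancel], hadd, hadd', hadd'] at h
    linear_combination h
  have hsq : ∀ u, ω (N (N u)) u = 0 := fun u => by
    have h1 := hh (N u) u
    have h2 := hh (N (N u)) u
    rw [halt, add_zero] at h1
    rw [hN3, show ω 0 u = 0 from zero_dotProduct _, show ω 0 (N u) = 0 from zero_dotProduct _,
      zero_add, add_zero] at h2
    rw [h2, add_zero] at h1
    exact h1
  have hdim : Module.finrank F (Fin 2 ⊕ Fin 2 → F) = 4 := by simp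
  have hsq0 : ∀ u, N (N u) = 0 := by
    by_contra hc
    simp only [not_forall] at hc
    obtain ⟨u, hu⟩ := hc
    obtain ⟨v, hv⟩ : ∃ v, ω (N (N u)) v ≠ 0 := by
      by_contra hv
      simp only [not_exists, not_not] at hv
      exact hu (hnd _ fun v => by rw [hskew, hv, neg_zero])
    have hskew2 : ω (N (N v)) u = -ω (N (N u)) v := by
      have h := hsq (u + v)
      rw [map_add, map_add, hadd, hadd', hadd', hsq, hsq] at h
      linear_combination h
    have hsub : LinearMap.range (N.comp N) ≤
        LinearMap.ker N ⊓ LinearMap.range N := by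
      rintro _ ⟨w, rfl⟩
      exact ⟨hN3 w, N w, rfl⟩
    have h2 : 2 ≤ Module.finrank F (LinearMap.range (N.comp N)) := by
      by_contra hlt
      have h1 : Module.finrank F (LinearMap.range (N.comp N)) ≤ 1 := by omega
      have hspan : Submodule.span F {N (N u)} = LinearMap.range (N.comp N) :=
        Submodule.eq_of_le_of_finrank_le ((Submodule.span_singleton_le_iff_mem _ _).2 ⟨u, rfl⟩)
          (by rw [finrank_span_singleton hu]; exact h1)
      obtain ⟨c, hc⟩ := Submodule.mem_span_singleton.1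
        (show N (N v) ∈ Submodule.span F {N (N u)} by rw [hspan]; exact ⟨v, rfl⟩)
      have h3 := hsq v
      rw [← hc, hsmul] at h3
      rw [← hc, (mul_eq_zero.1 h3).resolve_right hv, zero_smul,
        show ω 0 u = 0 from zero_dotProduct _] at hskew2
      exact hv (neg_eq_zero.1 hskew2.symm)
    let L := N.domRestrict (LinearMap.range N)
    have hker : 2 ≤ Module.finrank F (LinearMap.ker L) := by
      refine h2.trans ?_
      refine LinearMap.finrank_le_finrank_of_injective (f := LinearMap.codRestrict _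
        (Submodule.inclusion (hsub.trans inf_le_right)) fun w => ?_) ?_
      · exact LinearMap.mem_ker.2 (LinearMap.mem_ker.1 (hsub w.2).1)
      · exact fun a b h => Submodule.inclusion_injective _ (congrArg Subtype.val h)
    have hLr : LinearMap.range L = LinearMap.range (N.comp N) := by
      ext w
      constructor
      · rintro ⟨⟨_, a, rfl⟩, rfl⟩
        exact ⟨a, rfl⟩
      · rintro ⟨a, rfl⟩
        exact ⟨⟨N a, a, rfl⟩, rfl⟩
    have h4 := L.finrank_range_add_finrank_ker
    rw [hLr] at h4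
    have h5 := N.finrank_range_add_finrank_ker
    rw [hdim] at h5
    have h6 : LinearMap.ker N = ⊥ := Submodule.finrank_eq_zero.1 (by omega)
    have h7 : N (N u) ∈ LinearMap.ker N := hN3 u
    rw [h6, Submodule.mem_bot] at h7
    exact hu h7
  have hrk : LinearMap.range N ≤ LinearMap.ker N := by
    rintro _ ⟨w, rfl⟩
    exact hsq0 w
  have hiso : ∀ u w, N w = 0 → ω (N u) w = 0 := fun u w hw => by
    have h := hh u w
    rw [hw, show ω u 0 = 0 by simp [ω], show ω (N u) 0 = 0 by simp [ω], add_zero, add_zero] at h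
    exact h
  have hrn := N.finrank_range_add_finrank_ker
  rw [hdim] at hrn
  have hle := Submodule.finrank_mono hrk
  have hN0 : ∃ u, N u ≠ 0 := by
    by_contra hc
    simp only [not_exists, not_not] at hc
    have h : φ x = φ 1 := Subtype.ext (Matrix.ext_of_mulVec_single fun i => by
      show mat x *ᵥ _ = mat 1 *ᵥ _
      rw [hone]
      exact sub_eq_zero.1 ((hN _).symm.trans (hc _)))
    rw [hφ h, orderOf_one] at hx
    omega
  have hne1 : Module.finrank F (LinearMap.range N) ≠ 1 := by
    intro h1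
    obtain ⟨u, hu⟩ := hN0
    have hspan : Submodule.span F {N u} = LinearMap.range N :=
      Submodule.eq_of_le_of_finrank_le ((Submodule.span_singleton_le_iff_mem _ _).2 ⟨u, rfl⟩)
        (by rw [finrank_span_singleton hu, h1])
    -- the centre of the transvection is fixed by the central involution
    have he : mat (-1) *ᵥ N u = N u := by
      have h2 : mat x⁻¹ *ᵥ (mat t *ᵥ u) - mat t *ᵥ u = mat t *ᵥ N u := by
        rw [hN, Matrix.mulVec_sub, hmul, hmul, ← htx]
        simp [mul_assoc]
      have h3 : ∀ w, mat x⁻¹ *ᵥ w - w = -N w := fun w => by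
        have hinv : mat x⁻¹ *ᵥ w = w - N w := by
          have hb := congrArg (mat x⁻¹ *ᵥ ·) (show mat x *ᵥ (w - N w) = w by
            rw [Matrix.mulVec_sub, show mat x *ᵥ N w = N (N w) + N w by
              rw [hN (N w), sub_add_cancel], hsq0, hN]
            abel)
          simp only [hmul, inv_mul_cancel, hone] at hb
          exact hb.symm
        rw [hinv]; abel
      rw [h3] at h2
      obtain ⟨c, hc⟩ := Submodule.mem_span_singleton.1 (show mat t *ᵥ N u ∈ Submodule.span F {N u} by
        rw [hspan, ← h2]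
        exact neg_mem ⟨_, rfl⟩)
      have hcc : mat (-1) *ᵥ N u = (c * c) • N u := by
        rw [← htt, ← hmul, ← hc, Matrix.mulVec_smul, ← hc, smul_smul]
      have hc0 : c ≠ 0 := fun h0 => hu (by
        have h4 : mat t⁻¹ *ᵥ (mat t *ᵥ N u) = N u := by rw [hmul, inv_mul_cancel, hone]
        rw [← h4, ← hc, h0, zero_smul, Matrix.mulVec_zero])
      have hc1 := FiniteField.pow_card_sub_one_eq_one c hc0
      rw [hF, show 3 - 1 = 2 from rfl, pow_two] at hc1
      rw [hcc, hc1, one_smul]
    have hfix : ∀ v, mat (-1) *ᵥ v = -v → mat x *ᵥ v = v := by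
      intro v hv
      have hva : ω v (N u) = 0 := hneg (by
        conv_rhs => rw [← hω (-1) v (N u), hv, he]
        exact (neg_dotProduct _ _).symm)
      have hall : ∀ w, ω v (N w) = 0 := fun w => by
        obtain ⟨c, hc⟩ := Submodule.mem_span_singleton.1
          (show N w ∈ Submodule.span F {N u} by rw [hspan]; exact ⟨w, rfl⟩)
        rw [← hc, show ω v (c • N u) = c * ω v (N u) by simp [ω, Matrix.mulVec_smul], hva, mul_zero]
      have hNv : N v = 0 := hnd _ fun w => by
        have h := hh v w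
        rw [hiso v (N w) (hsq0 w), hall, add_zero, add_zero] at h
        rw [hskew, h, neg_zero]
      exact sub_eq_zero.1 ((hN v).symm.trans hNv)
    have hfix' : ∀ v, mat (-1) *ᵥ v = -v → mat (s * x * s⁻¹) *ᵥ v = v := by
      intro v hv
      have h4 : mat (-1) *ᵥ (mat s⁻¹ *ᵥ v) = -(mat s⁻¹ *ᵥ v) := by
        rw [hmul, show (-1 : Matrix.SpecialLinearGroup (Fin 2) K) * s⁻¹ = s⁻¹ * -1 by
          rw [neg_one_mul, mul_neg_one], ← hmul, hv, Matrix.mulVec_neg]
      rw [← hmul, ← hmul, hfix _ h4, hmul, mul_inv_cancel, hone]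
    have hzero : ∀ v, mat (-1) *ᵥ v = -v → v = 0 := by
      intro v hv
      have h5 : mat (-1) *ᵥ v = v := by
        have hy : mat (x * (s * x * s⁻¹)) *ᵥ v = v := by rw [← hmul, hfix' v hv, hfix v hv]
        rw [← hxs, ← hmul, hy, hy]
      funext i
      exact hneg (congrFun (hv.symm.trans h5) i)
    have h6 : φ (-1) = φ 1 := Subtype.ext (Matrix.ext_of_mulVec_single fun i => by
      show mat (-1) *ᵥ _ = mat 1 *ᵥ _
      rw [hone]
      refine sub_eq_zero.1 (hzero _ ?_)
      rw [Matrix.mulVec_sub, hmul, neg_one_mul, neg_neg, hone, neg_sub])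
    have h7 := congrFun (congrFun (congrArg Subtype.val (hφ h6)) 0) 0
    simp at h7
    have h20 : (2 : K) = 0 := by linear_combination -h7
    have h50 : (5 : K) = 0 := by
      let e := ZMod.ringEquivOfPrime K Nat.prime_five hK
      rw [show (5 : K) = e 5 from (map_ofNat e 5).symm, five_zero, map_zero]
    exact one_ne_zero (show (1 : K) = 0 by linear_combination h50 - 2 * h20)
  have hr0 : Module.finrank F (LinearMap.range N) ≠ 0 := fun h => by
    obtain ⟨u, hu⟩ := hN0
    have h' : N u ∈ LinearMap.range N := ⟨u, rfl⟩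
    rw [Submodule.finrank_eq_zero.1 h, Submodule.mem_bot] at h'
    exact hu h'
  have heq : LinearMap.range N = LinearMap.ker N :=
    Submodule.eq_of_le_of_finrank_le hrk (by omega)
  refine ⟨show Module.finrank F (LinearMap.ker N) = 2 by omega, fun v w hv hw => ?_⟩
  obtain ⟨u, rfl⟩ : v ∈ LinearMap.range N := by
    rw [heq]
    exact (hN v).trans (sub_eq_zero.2 hv)
  exact hiso u w ((hN w).trans (sub_eq_zero.2 hw))

end CfsgLib.SL25InSp43
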